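import Groth.Agent.Cube7.CubeGroup

/-!
Pullback of a symmetric class along points of an abelian scheme is a quadratic form.
-/

set_option autoImplicit false
set_option maxSynthPendingDepth 6
set_option linter.style.haveILetI false
set_option backward.isDefEq.respectTransparency.types false

noncomputable section

universe u

open CategoryTheory CategoryTheory.Limits MonoidalCategory CartesianMonoidalCategory MonObj GrpObj AlgebraicGeometry
open Groth.Agent.Cube7 Groth.Agent.Cube7.PicCalc

namespace Groth.Agent.AbDegPoly95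

variable {S : Scheme.{u}} {X : Over S} [GrpObj X] [IsCommMonObj X] [IsProper X.hom] [Flat X.hom]
  [LocallyOfFinitePresentation X.hom] [GeometricallyReduced X.hom] [GeometricallyConnected X.hom]
  (l : PicLoc.PicSet X.left) (h1 : pb η[X].left l = 1) (hs : pb ((𝟙 X)⁻¹ : X ⟶ X).left l = l) {T : Over S}

/-- The class along a point, written additively. -/
def Q (x : T ⟶ X) : Additive (PicLoc.PicSet T.left) := Additive.ofMul (pt X l x)

include h1 in
theorem Q_one : Q l (1 : T ⟶ X) = 0 := by
  rw [Q, pt, one_left, pb_comp, h1, map_one, ofMul_one]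

include hs in
theorem Q_inv (x : T ⟶ X) : Q l x⁻¹ = Q l x := by
  rw [Q, Q, show x⁻¹ = x ≫ (𝟙 X)⁻¹ by rw [GrpObj.comp_inv, Category.comp_id], ← pb_pt]
  exact congrArg (fun c => Additive.ofMul (pb x.left c)) hs

/-- The polarisation. -/
def pol (x y : T ⟶ X) : Additive (PicLoc.PicSet T.left) := Q l (x * y) - Q l x - Q l y

theorem cube (x y z : T ⟶ X) :
    Q l (x * y * z) + Q l x + Q l y + Q l z = Q l (x * y) + Q l (x * z) + Q l (y * z) + Q l 1 := by
  have h := cubeCl_eq_one X l x y z
  rw [cubeCl, div_eq_one] at h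
  exact congrArg Additive.ofMul h

theorem pol_comm (x y : T ⟶ X) : pol l x y = pol l y x := by
  simp only [pol, _root_.mul_comm x y]; abel

include h1 in
theorem pol_mul_left (x y z : T ⟶ X) : pol l (x * y) z = pol l x z + pol l y z := by
  have h := cube l x y z
  rw [Q_one l h1, add_zero] at h
  simp only [pol]
  linear_combination (norm := abel) h

/-- The polarisation as a biadditive map. -/
def polHom : Additive (T ⟶ X) →+ Additive (T ⟶ X) →+ Additive (PicLoc.PicSet T.left) :=
  AddMonoidHom.mk'
    (fun x => AddMonoidHom.mk' (fun y : Additive (T ⟶ X) => pol l (Additive.toMul x) (Additive.toMul y)) fun y y' => by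
      rw [pol_comm, toMul_add, pol_mul_left l h1, pol_comm l (Additive.toMul y), pol_comm l (Additive.toMul y')])
    fun x x' => by
      ext y
      exact pol_mul_left l h1 (Additive.toMul x) (Additive.toMul x') (Additive.toMul y)

include h1 hs in
theorem pol_self (x : T ⟶ X) : pol l x x = Q l x + Q l x := by
  have h2 := pol_mul_left l h1 x x⁻¹ x
  rw [mul_inv_cancel] at h2
  have h3 : pol l 1 x = 0 := by simp only [pol, _root_.one_mul, Q_one l h1]; abel
  have h4 : pol l x⁻¹ x = -(Q l x + Q l x) := by
    simp only [pol, inv_mul_cancel, Q_one l h1, Q_inv l hs]; abel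
  rw [h3, h4] at h2
  exact (eq_neg_iff_add_eq_zero.2 h2.symm).trans (neg_neg _)

include h1 hs in
/-- Twice the class along a combination of points. -/
theorem two_Q_prod {m : ℕ} (f : Fin m → (T ⟶ X)) (a : Fin m → ℤ) :
    2 • Q l (∏ i, f i ^ a i) =
      ∑ p : Fin m × Fin m, (a p.1 * a p.2) • polHom l h1 (Additive.ofMul (f p.1)) (Additive.ofMul (f p.2)) := by
  have h : 2 • Q l (∏ i, f i ^ a i) =
      polHom l h1 (Additive.ofMul (∏ i, f i ^ a i)) (Additive.ofMul (∏ i, f i ^ a i)) := by
    show _ = pol l _ _
    rw [pol_self l h1 hs, two_nsmul]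
    rfl
  rw [h, ofMul_prod]
  simp only [ofMul_zpow, map_sum, AddMonoidHom.finsetSum_apply, map_zsmul, AddMonoidHom.smul_apply,
    Finset.smul_sum, smul_smul]
  rw [Fintype.sum_prod_type, Finset.sum_comm]
  refine Finset.sum_congr rfl fun i _ => Finset.sum_congr rfl fun j _ => ?_
  rw [_root_.mul_comm]

end Groth.Agent.AbDegPoly95
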