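import Groth.Agent.AbDegPoly95.Tau
import Groth.Agent.AbDegPoly95.Quad
import Groth.Agent.AbDeg57.FlatPow
import Groth.Agent.FibCrit57.GrpField
import Groth.Agent.Theta99.KL

/-!
The degree of a combination of homomorphisms of abelian varieties is a polynomial.
-/

set_option autoImplicit false
set_option maxSynthPendingDepth 6
set_option linter.style.haveILetI false
set_option backward.isDefEq.respectTransparency.types false

noncomputable section

universe u

open CategoryTheory CategoryTheory.Limits MonoidalCategory CartesianMonoidalCategory MonObj GrpObj AlgebraicGeometry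
open scoped Groth.Agent.FGA29
open Groth.Agent.Cube7 Groth.Agent.Cube7.PicCalc

namespace Groth.Agent.AbDegPoly95

variable {K : Type u} [Field K] {A B : Over (Spec (CommRingCat.of K))}

local instance overLeft (C : Over (Spec (CommRingCat.of K))) : C.left.Over (Spec (CommRingCat.of K)) := ⟨C.hom⟩

local instance properLeft (C : Over (Spec (CommRingCat.of K))) [IsProper C.hom] :
    IsProper (C.left ↘ Spec (CommRingCat.of K)) := ‹IsProper C.hom›

local instance integralLeft (C : Over (Spec (CommRingCat.of K))) [GeometricallyIntegral C.hom] : IsIntegral C.left :=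
  GeometricallyIntegral.isIntegral_of_subsingleton C.hom

theorem dl_genericPoint [IsProper A.hom] [GeometricallyIntegral A.hom] {r : ℕ}
    (hr : topologicalKrullDim A.left = r) : FGA29.dl K A.left (genericPoint A.left) = (r : ℤ) := by
  have h := (WC97.dim_eq (A.left ↘ Spec (CommRingCat.of K))).1.symm.trans hr
  have h' : WC97.tdegN (A.left ↘ Spec (CommRingCat.of K)) (genericPoint A.left) = r := by exact_mod_cast h
  exact congrArg Nat.cast h'

variable [IsProper A.hom] [GeometricallyIntegral A.hom] [IsProper B.hom] [GeometricallyIntegral B.hom]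
  {r : ℕ} (hA : topologicalKrullDim A.left = r) (hB : topologicalKrullDim B.left = r)

include hA hB in
theorem apply_genericPoint_of_delta (φ : A ⟶ B)
    (h : (r : ℤ) ≤ FGA29.dl K B.left (φ.left (genericPoint A.left))) :
    φ.left (genericPoint A.left) = genericPoint B.left :=
  (Cyc90.eq_of_delta_le (isSetup K).2.2 (genericPoint_specializes _) ((dl_genericPoint hB).trans_le h)).symm

include hA hB in
theorem eq_genericPoint_of_apply (φ : A ⟶ B) (x : A.left) (hx : φ.left x = genericPoint B.left) :
    x = genericPoint A.left := by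
  have hδ := FGA29.deltaCompat_map K φ.left (Over.w φ)
  refine (Cyc90.eq_of_delta_le (isSetup K).2.2 (genericPoint_specializes _) ?_).symm
  obtain ⟨n, -, hd⟩ := hδ x
  rw [hx, dl_genericPoint hB] at hd
  rw [dl_genericPoint hA, hd]
  omega

theorem isRegular_stalk [GrpObj A] (x : A.left) : IsRegularLocalRing (A.left.presheaf.stalk x) :=
  haveI : Smooth A.hom := S7795.result A
  VarGal.isRegularLocalRing_stalk_of_smooth A.hom x

theorem finite_preimage_genericPoint (hA : topologicalKrullDim A.left = r) (hB : topologicalKrullDim B.left = r)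
    (φ : A ⟶ B) : (φ.left ⁻¹' {genericPoint B.left}).Finite :=
  (Set.finite_singleton (genericPoint A.left)).subset fun x hx => eq_genericPoint_of_apply hA hB φ x hx

theorem isProper_left (φ : A ⟶ B) : IsProper φ.left := by
  have : IsProper (φ.left ≫ B.hom) := by rw [Over.w]; infer_instance
  exact IsProper.of_comp φ.left B.hom

include hA hB in
/-- The symbol of the pullback along a finite morphism. -/
theorem tau_pb_of_finite [GrpObj A] [GrpObj B] (φ : A ⟶ B) [IsFinite φ.left] (l : PicLoc.PicSet B.left) (b : B.left) :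
    tau K (fun _ : Fin r => Additive.ofMul (pb φ.left l)) =
      (Scheme.Hom.finrank φ.left b : ℤ) * tau K (fun _ : Fin r => Additive.ofMul l) := by
  haveI : IsLocallyNoetherian A.left := LocallyOfFiniteType.isLocallyNoetherian A.hom
  haveI : IsLocallyNoetherian B.left := LocallyOfFiniteType.isLocallyNoetherian B.hom
  haveI := isProper_left φ
  have hne : ∀ x, φ.left.residueDegree x ≠ 0 := fun x => by
    let := (φ.left.residueFieldMap x).hom.toAlgebra
    have : Module.Finite (B.left.residueField (φ.left x)) (A.left.residueField x) :=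
      Cyc90.finite_residueFieldMap_of_quasiFinite φ.left _
    exact (Module.finrank_pos (R := B.left.residueField (φ.left x))).ne'
  have hδ := FGA29.deltaCompat_map K φ.left (Over.w φ)
  have hgen : φ.left (genericPoint A.left) = genericPoint B.left := apply_genericPoint_of_delta hA hB φ
    (by rw [← Cyc90.delta_eq_of_residueDegree_ne_zero φ.left hδ _ (hne _), dl_genericPoint hA])
  haveI : Flat φ.left := (NeronHD28.flat_iff_locallyQuasiFinite_of_regular φ.left (fun x => isRegular_stalk x)
    (fun x => isRegular_stalk x) hgen (finite_preimage_genericPoint hA hB φ)).2 inferInstance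
  obtain ⟨L, hL, rfl⟩ := PicGrp.exists_eq_cls l
  rw [tau_eq K (g := fun _ : Fin r => Additive.ofMul (pb φ.left (PicGrp.cls L hL)))
      (M := fun _ : Fin r => (Scheme.Modules.pullback φ.left).obj L)
      (fun _ => PicLoc.isInvertible_pullback _ hL) (fun _ => pb_cls _ hL),
    tau_eq K (g := fun _ : Fin r => Additive.ofMul (PicGrp.cls L hL)) (M := fun _ : Fin r => L) (fun _ => hL) (fun _ => rfl),
    AbDeg57.intE_css_pullback K φ.left (Over.w φ) (fun _ => hL) (dl_genericPoint hA) (hne _), hgen,
    AbDeg57.residueDegree_genericPoint φ.left hgen (fun x hx => eq_genericPoint_of_apply hA hB φ x hx),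
    (Scheme.Hom.isLocallyConstant_finrank φ.left).apply_eq_of_preconnectedSpace b (genericPoint B.left)]

include hA hB in
/-- The symbol of the pullback along a homomorphism which is not finite. -/
theorem tau_pb_of_not_finite [GrpObj A] [GrpObj B] (φ : A ⟶ B) [IsMonHom φ] (hφ : ¬ IsFinite φ.left)
    (l : PicLoc.PicSet B.left) : tau K (fun _ : Fin r => Additive.ofMul (pb φ.left l)) = 0 := by
  haveI : IsLocallyNoetherian A.left := LocallyOfFiniteType.isLocallyNoetherian A.hom
  haveI := isProper_left φ
  haveI : IsLocallyNoetherian B.left := LocallyOfFiniteType.isLocallyNoetherian B.hom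
  have hlt : FGA29.dl K B.left (φ.left (genericPoint A.left)) < r := by
    by_contra h
    have hgen := apply_genericPoint_of_delta hA hB φ (not_lt.1 h)
    haveI : Surjective φ.left := ⟨Set.range_eq_univ.1 (Set.eq_univ_of_univ_subset (by
      rw [← genericPoint_closure, IsClosed.closure_subset_iff φ.left.isClosedMap.isClosed_range]
      exact Set.singleton_subset_iff.2 ⟨_, hgen⟩))⟩
    haveI : LocallyQuasiFinite φ.left := (NeronHD28.flat_iff_locallyQuasiFinite_of_regular φ.left
      (fun x => isRegular_stalk x) (fun x => isRegular_stalk x) hgen (finite_preimage_genericPoint hA hB φ)).1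
      (FibCrit57.flat_of_surjective_of_reduced φ)
    exact hφ (IsFinite.of_isProper_of_locallyQuasiFinite φ.left)
  obtain ⟨L, hL, rfl⟩ := PicGrp.exists_eq_cls l
  have hF := FGA29.cohLe_css K (FGA29.deltaCompat_tdegN (X := A.left) K) (isSetup K)
    (dl_genericPoint hA).le
  rw [tau_eq K (g := fun _ : Fin r => Additive.ofMul (pb φ.left (PicGrp.cls L hL)))
      (M := fun _ : Fin r => (Scheme.Modules.pullback φ.left).obj L)
      (fun _ => PicLoc.isInvertible_pullback _ hL) (fun _ => pb_cls _ hL),
    FGA29.intE_pullback_eq_push K φ.left (Over.w φ) (fun _ => hL) hF]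
  refine FGA29.intE_eq_zero_of_dim_lt K (fun _ => hL) (FGA29.isCoh_push_of_isProper φ.left _ hF.1) ?_
  haveI := hF.1.1
  haveI := hF.1.2
  refine ((LC17.dim_mono (fun y hy => ?_ :
    CohB1.support ((Coh.push φ.left).obj (Cyc.closureStructureSheaf (genericPoint A.left))) ⊆
      closure {φ.left (genericPoint A.left)})).trans
    (Cyc90.Dev.dim_closure_eq_delta (FGA29.deltaCompat_tdegN (X := B.left) K) _).le).trans_lt ?_
  · by_contra hy'
    refine hy (FGA29.subsingleton_stalk_push φ.left _ y fun x hx => absurd ?_ hy')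
    rw [← hx]
    exact specializes_iff_mem_closure.1 ((genericPoint_specializes x).map φ.left.continuous)
  · have h0 := Cyc90.Dev.delta_nonneg' (FGA29.deltaCompat_tdegN (X := B.left) K) (φ.left (genericPoint A.left))
    exact_mod_cast (Int.toNat_lt h0).2 hlt

theorem isMonHom_prod_zpow [GrpObj A] [GrpObj B] [IsCommMonObj B] {m : ℕ} (f : Fin m → (A ⟶ B))
    [hf : ∀ i, IsMonHom (f i)] (a : Fin m → ℤ) : IsMonHom (∏ i, f i ^ a i) := by
  let H : Subgroup (A ⟶ B) :=
    { carrier := {φ | IsMonHom φ}
      mul_mem' := fun {φ ψ} (_ : IsMonHom φ) (_ : IsMonHom ψ) => (inferInstanceAs (IsMonHom (lift φ ψ ≫ μ[B])))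
      one_mem' := show IsMonHom (1 : A ⟶ B) from
        { one_hom := by rw [MonObj.comp_one, MonObj.one_eq_one]
          mul_hom := by rw [MonObj.comp_one, MonObj.mul_eq_mul, MonObj.comp_mul, tensorHom_fst, tensorHom_snd, MonObj.comp_one, MonObj.comp_one, _root_.one_mul] }
      inv_mem' := fun {φ} (_ : IsMonHom φ) => (inferInstance : IsMonHom φ⁻¹) }
  exact H.prod_mem (fun i _ => H.zpow_mem (hf i) (a i))

include hA hB in
/-- The degree is a homogeneous polynomial. -/
theorem exists_poly [GrpObj A] [GrpObj B] [IsCommMonObj B] {m : ℕ} (f : Fin m → (A ⟶ B))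
    [∀ i, IsMonHom (f i)] :
    ∃ P : MvPolynomial (Fin m) ℚ, P.IsHomogeneous (2 * r) ∧
      ∀ a : Fin m → ℤ, (IsFinite (∏ i, f i ^ a i).left →
          ∀ x : B.left, (Scheme.Hom.finrank (∏ i, f i ^ a i).left x : ℚ) = MvPolynomial.eval (fun i => (a i : ℚ)) P) ∧
        (¬ IsFinite (∏ i, f i ^ a i).left → MvPolynomial.eval (fun i => (a i : ℚ)) P = 0) := by
  classical
  haveI : GeometricallyConnected B.hom := ⟨fun K' _ y Z p q h => by
    haveI := GeometricallyIntegral.geometrically_isIntegral (f := B.hom) y p q h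
    infer_instance⟩
  obtain ⟨L, hL, hsym⟩ := AbDeg57.exists_symm_isAmple B
  obtain ⟨T, hT, ⟨eT⟩⟩ := An92.InvMod.exists_inverse hL.1
  set t := PicGrp.cls T hT with ht
  have htL : t = (PicGrp.cls L hL.1)⁻¹ := by
    refine eq_inv_of_mul_eq_one_left ?_
    rw [ht]
    exact (cls_tensor hT hL.1).symm.trans ((PicGrp.cls_eq_one_iff _).2 ⟨eT⟩)
  have h1 : pb η[B].left t = 1 := by
    rw [pb_cls, PicGrp.cls_eq_one_iff]
    exact Theta99.trivial_of_field (PicLoc.isInvertible_pullback _ hT)
  have hs : pb ((𝟙 B)⁻¹ : B ⟶ B).left t = t := by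
    rw [htL, map_inv, pb_cls]
    exact congrArg Inv.inv ((PicGrp.cls_eq_cls_iff _ _).2 hsym)
  have hpos : 0 < tau K (fun _ : Fin r => Additive.ofMul t) := by
    rw [tau_eq K (g := fun _ : Fin r => Additive.ofMul t) (M := fun _ : Fin r => T) (fun _ => hT) (fun _ => ht)]
    exact FGA29.intE_css_pos (isSetup K) K (FGA29.deltaCompat_tdegN (X := B.left) K) (fun _ : Fin r => L)
      (fun _ => T) (fun _ => hL) (fun _ => ⟨eT⟩) _ (dl_genericPoint hB)
  set e := tau K (fun _ : Fin r => Additive.ofMul t) with he
  let ν : (Fin r → Fin m × Fin m) → ℤ := fun σ =>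
    tauM (X := A.left) K hA.le fun i => polHom t h1 (Additive.ofMul (f (σ i).1)) (Additive.ofMul (f (σ i).2))
  refine ⟨MvPolynomial.C ((1 : ℚ) / (2 ^ r * e)) * ∑ σ : Fin r → Fin m × Fin m,
    MvPolynomial.C (ν σ : ℚ) * ∏ i, MvPolynomial.X (σ i).1 * MvPolynomial.X (σ i).2, ?_, fun a => ?_⟩
  · refine MvPolynomial.IsHomogeneous.C_mul (MvPolynomial.IsHomogeneous.sum _ _ _ fun σ _ =>
      MvPolynomial.IsHomogeneous.C_mul ?_ _) _
    have h := MvPolynomial.IsHomogeneous.prod Finset.univ
      (fun i => MvPolynomial.X (R := ℚ) (σ i).1 * MvPolynomial.X (σ i).2) (fun _ => 2)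
      fun i _ => (MvPolynomial.isHomogeneous_X _ _).mul (MvPolynomial.isHomogeneous_X _ _)
    rwa [Finset.sum_const, Finset.card_univ, Fintype.card_fin, smul_eq_mul, _root_.mul_comm] at h
  haveI := isMonHom_prod_zpow f a
  set φ := ∏ i, f i ^ a i with hφ
  have key : (2 : ℤ) ^ r * tau K (fun _ : Fin r => Additive.ofMul (pb φ.left t)) =
      ∑ σ : Fin r → Fin m × Fin m, (∏ i, a (σ i).1 * a (σ i).2) * ν σ := by
    have h2 := congrArg (fun v => tauM (X := A.left) K hA.le fun _ => v) (two_Q_prod t h1 hs f a)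
    simp only [MultilinearMap.map_sum, MultilinearMap.map_smul_univ, smul_eq_mul] at h2
    rw [← hφ] at h2
    exact (tauM_two_smul K hA.le (Q t φ)).symm.trans h2
  have hev : MvPolynomial.eval (fun i => (a i : ℚ)) (MvPolynomial.C ((1 : ℚ) / (2 ^ r * e)) *
      ∑ σ : Fin r → Fin m × Fin m, MvPolynomial.C (ν σ : ℚ) *
        ∏ i, MvPolynomial.X (σ i).1 * MvPolynomial.X (σ i).2) =
      (tau K (fun _ : Fin r => Additive.ofMul (pb φ.left t)) : ℚ) / e := by
    have h3 := congrArg (fun z : ℤ => (z : ℚ)) key
    push_cast at h3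
    simp only [map_mul, map_sum, map_prod, MvPolynomial.eval_C, MvPolynomial.eval_X]
    rw [show (∑ σ : Fin r → Fin m × Fin m, (ν σ : ℚ) * ∏ i, (a (σ i).1 : ℚ) * (a (σ i).2 : ℚ)) =
      2 ^ r * (tau K (fun _ : Fin r => Additive.ofMul (pb φ.left t)) : ℚ) from
      (Finset.sum_congr rfl fun σ _ => _root_.mul_comm _ _).trans h3.symm]
    field_simp
  refine ⟨fun hfin x => ?_, fun hfin => ?_⟩
  · rw [hev, tau_pb_of_finite hA hB φ t x, ← he]
    push_cast
    rw [mul_div_assoc, div_self (by exact_mod_cast hpos.ne'), _root_.mul_one]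
  · rw [hev, tau_pb_of_not_finite hA hB φ hfin t, Int.cast_zero, zero_div]

end Groth.Agent.AbDegPoly95
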