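import Groth.Agent.AbDeg57.DegFormula
import Groth.Agent.Cube7.PicCalc

/-!
The top intersection symbol of an integral proper scheme as a multilinear form on the Picard group.
-/

set_option autoImplicit false
set_option linter.style.haveILetI false
set_option backward.isDefEq.respectTransparency.types false

noncomputable section

universe u

open CategoryTheory CategoryTheory.Limits AlgebraicGeometry TopologicalSpace
open scoped Groth.Agent.FGA29
open Groth.Agent.Cube7.PicCalc

namespace Groth.Agent.AbDegPoly95

variable (k : Type u) [Field k] {X : Scheme.{u}} [X.Over (Spec (CommRingCat.of k))]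

/-- A representative of a class. -/
def rep (c : PicLoc.PicSet X) : X.Modules := (PicGrp.exists_eq_cls c).choose

theorem rep_inv (c : PicLoc.PicSet X) : PicF.IsInvertible (rep c) :=
  (PicGrp.exists_eq_cls c).choose_spec.choose

theorem cls_rep (c : PicLoc.PicSet X) : c = PicGrp.cls (rep c) (rep_inv c) :=
  (PicGrp.exists_eq_cls c).choose_spec.choose_spec

variable [IrreducibleSpace X]

/-- The symbol against the whole scheme. -/
def tau {r : ℕ} (g : Fin r → Additive (PicLoc.PicSet X)) : ℤ :=
  Cyc90.Dev.intE k (fun i => rep (g i).toMul) (Cyc.closureStructureSheaf (genericPoint X))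

theorem tau_eq {r : ℕ} {g : Fin r → Additive (PicLoc.PicSet X)} {M : Fin r → X.Modules}
    (hM : ∀ i, PicF.IsInvertible (M i)) (h : ∀ i, (g i).toMul = PicGrp.cls (M i) (hM i)) :
    tau k g = Cyc90.Dev.intE k M (Cyc.closureStructureSheaf (genericPoint X)) :=
  AbDeg57.intE_congr_cl k (fun i => congrArg Subtype.val ((cls_rep (g i).toMul).symm.trans (h i))) _

variable [IsProper (X ↘ Spec (CommRingCat.of k))]

theorem isSetup : Cyc.IsSetup X (FGA29.dl k X) :=
  Cyc90.isSetup_of_field (X ↘ Spec (CommRingCat.of k)) _ (FGA29.deltaCompat_tdegN (X := X) k)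

theorem tau_add {r : ℕ} (hr : topologicalKrullDim X ≤ ((r + 1 : ℕ) : WithBot ℕ∞))
    (g : Fin r → Additive (PicLoc.PicSet X)) (a b : Additive (PicLoc.PicSet X)) :
    tau k (Fin.cons (a + b) g) = tau k (Fin.cons a g) + tau k (Fin.cons b g) := by
  have hF : Coh.IsCoh (Cyc.closureStructureSheaf (genericPoint X)) :=
    haveI := (isSetup k (X := X)).1
    Cyc90.CycSh.isCoh_css _
  have hs : topologicalKrullDim (CohB1.support (Cyc.closureStructureSheaf (genericPoint X))) ≤
      ((r + 1 : ℕ) : WithBot ℕ∞) :=
    (LC17.dim_mono (Set.subset_univ _)).trans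
      ((Homeomorph.Set.univ X).isHomeomorph.topologicalKrullDim_eq _ |>.trans_le hr)
  have hi : ∀ (c : Additive (PicLoc.PicSet X)), ∀ i, PicF.IsInvertible
      ((Fin.cons (rep c.toMul) fun j => rep (g j).toMul : Fin (r + 1) → X.Modules) i) := fun c =>
    Fin.cases (rep_inv _) fun j => rep_inv _
  rw [tau_eq k (M := Fin.cons (CohB1.tensorMod (rep a.toMul) (rep b.toMul)) fun j => rep (g j).toMul)
      (Fin.cases (EGA73.isInvertible_tensorMod (rep_inv _) (rep_inv _)) fun j => rep_inv _) ?_,
    tau_eq k (hi a) ?_, tau_eq k (hi b) ?_]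
  · exact FGA29.intE_add_left k (fun j => rep_inv _) (rep_inv _) (rep_inv _) hF hs
  · exact Fin.cases (cls_rep _) fun j => cls_rep _
  · exact Fin.cases (cls_rep _) fun j => cls_rep _
  · refine Fin.cases ?_ fun j => cls_rep _
    show a.toMul * b.toMul = _
    conv_lhs => rw [cls_rep a.toMul, cls_rep b.toMul, ← cls_tensor]
    rfl

theorem tau_update_add {r : ℕ} (hr : topologicalKrullDim X ≤ (r : WithBot ℕ∞)) [DecidableEq (Fin r)]
    (g : Fin r → Additive (PicLoc.PicSet X)) (i : Fin r) (a b : Additive (PicLoc.PicSet X)) :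
    tau k (Function.update g i (a + b)) = tau k (Function.update g i a) + tau k (Function.update g i b) := by
  rcases r with _ | r
  · exact i.elim0
  let σ := Equiv.swap 0 i
  have e : ∀ c, tau k (Function.update g i c) = tau k (Fin.cons c fun j : Fin r => g (σ j.succ)) := fun c => by
    unfold tau
    rw [← FGA29.intE_perm k (fun j => rep (Function.update g i c j).toMul) σ]
    refine congrArg (fun M => Cyc90.Dev.intE k M _) (funext (Fin.cases ?_ fun j => ?_))
    · simp [σ]
    · have hne : σ j.succ ≠ i := fun h =>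
        Fin.succ_ne_zero j (σ.injective (h.trans (Equiv.swap_apply_left 0 i).symm))
      rw [Fin.cons_succ, Function.update_of_ne hne]
  rw [e, e, e, tau_add k hr]

/-- The symbol as a multilinear form. -/
def tauM {r : ℕ} (hr : topologicalKrullDim X ≤ (r : WithBot ℕ∞)) :
    MultilinearMap ℤ (fun _ : Fin r => Additive (PicLoc.PicSet X)) ℤ where
  toFun := tau k
  map_update_add' g i a b := tau_update_add k hr g i a b
  map_update_smul' g i c a := by
    let φ : Additive (PicLoc.PicSet X) →+ ℤ :=
      AddMonoidHom.mk' (fun v => tau k (Function.update g i v)) (tau_update_add k hr g i)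
    exact (map_zsmul φ c a).trans rfl

theorem tauM_two_smul {r : ℕ} (hr : topologicalKrullDim X ≤ (r : WithBot ℕ∞)) (c : Additive (PicLoc.PicSet X)) :
    tauM k hr (fun _ : Fin r => 2 • c) = (2 : ℤ) ^ r * tau k (fun _ : Fin r => c) := by
  have e : (fun _ : Fin r => 2 • c) = fun i : Fin r => (fun _ : Fin r => ((2 : ℕ) : ℤ)) i • (fun _ : Fin r => c) i :=
    funext fun _ => (natCast_zsmul c 2).symm
  rw [e, MultilinearMap.map_smul_univ, Finset.prod_const, Finset.card_univ, Fintype.card_fin, smul_eq_mul]
  rfl

end Groth.Agent.AbDegPoly95
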